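import Mathlib
import Groth.Prelude.Def_Grpd
import Groth.Agent.GitQuot.GrpdShear
import Groth.Agent.GitQuot.GrpdOfMono
import Groth.Agent.GitQuot.GrpdMonoAffine
import Groth.Agent.GitQuot.AffGpd.QuotAffine

/-!
# A finite locally free subgroupoid of a groupoid on an affine scheme: the quotient of the objects
-/

set_option autoImplicit false

universe u

open AlgebraicGeometry CategoryTheory CategoryTheory.Limits

noncomputable section

namespace Groth.SubQuot

open Groth.GrpdBasic

variable {S : Scheme.{u}}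

/-- A finite locally free subgroupoid acting with monomorphic `j`. -/
structure SubData (G : Grpd.GroupoidScheme S) where
  P : Scheme.{u}
  ι : P ⟶ G.R
  eP : G.U ⟶ P
  he : eP ≫ ι = G.e
  iP : P ⟶ P
  hi : iP ≫ ι = ι ≫ G.i
  cP : pullback (ι ≫ G.s) (ι ≫ G.t) ⟶ P
  hc : cP ≫ ι = pullback.map (ι ≫ G.s) (ι ≫ G.t) G.s G.t ι ι (𝟙 G.U) (Category.comp_id _)
    (Category.comp_id _) ≫ G.c
  finS : IsFinite (ι ≫ G.s)
  flatS : Flat (ι ≫ G.s)
  lfpS : LocallyOfFinitePresentation (ι ≫ G.s)
  finT : IsFinite (ι ≫ G.t)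
  flatT : Flat (ι ≫ G.t)
  lfpT : LocallyOfFinitePresentation (ι ≫ G.t)
  mono : Mono (ι ≫ G.j)

variable {G : Grpd.GroupoidScheme S} (D : SubData G)

namespace SubData

/-- source on `P` -/
abbrev sP : D.P ⟶ G.U := D.ι ≫ G.s

/-- target on `P` -/
abbrev tP : D.P ⟶ G.U := D.ι ≫ G.t

instance : IsFinite D.sP := D.finS
instance : Flat D.sP := D.flatS
instance : LocallyOfFinitePresentation D.sP := D.lfpS
instance : IsFinite D.tP := D.finT
instance : Flat D.tP := D.flatT
instance : LocallyOfFinitePresentation D.tP := D.lfpT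

theorem hom_ext {T : Scheme.{u}} {a b : T ⟶ D.P} (ht : a ≫ D.tP = b ≫ D.tP)
    (hs : a ≫ D.sP = b ≫ D.sP) : a = b := by
  have := D.mono
  rw [← cancel_mono (D.ι ≫ G.j)]
  apply pullback.hom_ext
  · simp only [Category.assoc, j_fst]; exact ht
  · simp only [Category.assoc, j_snd]; exact hs

/-- composition in `P` on points -/
def compP {T : Scheme.{u}} (a b : T ⟶ D.P) (h : a ≫ D.sP = b ≫ D.tP) : T ⟶ D.P :=
  pullback.lift a b h ≫ D.cP

theorem compP_ι {T : Scheme.{u}} (a b : T ⟶ D.P) (h : a ≫ D.sP = b ≫ D.tP) :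
    D.compP a b h ≫ D.ι = comp G (a ≫ D.ι) (b ≫ D.ι) (by simpa only [Category.assoc] using h) := by
  rw [compP, Category.assoc, D.hc, ← Category.assoc, comp]
  congr 1
  apply pullback.hom_ext
  · rw [Category.assoc, pullback.lift_fst, ← Category.assoc, pullback.lift_fst, pullback.lift_fst]
  · rw [Category.assoc, pullback.lift_snd, ← Category.assoc, pullback.lift_snd, pullback.lift_snd]

/-- The subgroupoid. -/
@[reducible] def grpd : Grpd.GroupoidScheme S :=
  ofMono G.pU (D.ι ≫ G.pR) D.sP D.tP (by rw [Category.assoc, G.s_over]) (by rw [Category.assoc, G.t_over])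
    (fun ht hs => D.hom_ext ht hs) D.eP D.iP D.cP
    (by rw [← Category.assoc, D.he, G.e_s]) (by rw [← Category.assoc, D.he, G.e_t])
    (by rw [← Category.assoc, D.hi, Category.assoc, G.i_s]) (by rw [← Category.assoc, D.hi, Category.assoc, G.i_t])
    (by rw [← Category.assoc, D.hc, Category.assoc, c_s, ← Category.assoc, pullback.lift_snd, Category.assoc])
    (by rw [← Category.assoc, D.hc, Category.assoc, c_t, ← Category.assoc, pullback.lift_fst, Category.assoc])

instance : Mono D.grpd.j := mono_j_of_hom_ext _ fun ht hs => D.hom_ext ht hs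

variable [IsAffine G.U]

instance : IsAffine D.grpd.U := inferInstanceAs (IsAffine G.U)
instance : IsAffine D.grpd.R := isAffine_of_isAffineHom D.sP
instance : IsFinite D.grpd.s := D.finS
instance : Flat D.grpd.s := D.flatS
instance : LocallyOfFinitePresentation D.grpd.s := D.lfpS

/-- The quotient of the objects. -/
abbrev Q : Scheme.{u} := Spec (CommRingCat.of D.grpd.invariants)

/-- The quotient map on objects. -/
abbrev q : G.U ⟶ D.Q := D.grpd.toQuot

theorem isQuot_q : Quot.IsQuot D.sP D.tP D.q := AffGpd.isQuot_toQuot D.grpd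

theorem isPullback_q : IsPullback D.tP D.sP D.q D.q := (AffGpd.mono_toQuot D.grpd).2

instance : IsFinite D.q := (AffGpd.mono_toQuot D.grpd).1.1
instance : Flat D.q := (AffGpd.mono_toQuot D.grpd).1.2.1
instance : LocallyOfFinitePresentation D.q := (AffGpd.mono_toQuot D.grpd).1.2.2
instance : Surjective D.q := ⟨D.isQuot_q.surj⟩

/-- The structure map of the quotient. -/
def pQ : D.Q ⟶ S := (D.isQuot_q.exists_desc G.pU (D.grpd.t_over.trans D.grpd.s_over.symm)).choose

@[reassoc]
theorem q_pQ : D.q ≫ D.pQ = G.pU :=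
  (D.isQuot_q.exists_desc G.pU (D.grpd.t_over.trans D.grpd.s_over.symm)).choose_spec

/-- The `P`-arrow between two points with the same image. -/
theorem exists_P {T : Scheme.{u}} (u u' : T ⟶ G.U) (h : u ≫ D.q = u' ≫ D.q) :
    ∃ a : T ⟶ D.P, a ≫ D.tP = u ∧ a ≫ D.sP = u' :=
  ⟨D.isPullback_q.lift u u' h, D.isPullback_q.lift_fst _ _ _, D.isPullback_q.lift_snd _ _ _⟩

end SubData

end Groth.SubQuot
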