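import Mathlib
import Groth.Agent.GitQuot.SubQuot.Basic
import Groth.Agent.GitQuot.FiniteAffine
import Groth.Agent.GitQuot.GrpdMonoQuotient

/-!
# Two-sided translation of the arrows by a subgroupoid, and its quotient
-/

set_option autoImplicit false

universe u

open AlgebraicGeometry CategoryTheory CategoryTheory.Limits

noncomputable section

namespace Groth.SubQuot

open Groth.GrpdBasic

variable {S : Scheme.{u}} {G : Grpd.GroupoidScheme S} (D : SubData G)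

/-- Regrouping five arrows. -/
theorem five (G : Grpd.GroupoidScheme S) {T : Scheme.{u}} (x₀ y₀ a y₁ x₁ : T ⟶ G.R)
    (k₀ : x₀ ≫ G.s = y₀ ≫ G.t) (l₀ : y₀ ≫ G.s = a ≫ G.t) (l₁ : a ≫ G.s = y₁ ≫ G.t)
    (k₁ : y₁ ≫ G.s = x₁ ≫ G.t) :
    comp G (comp G x₀ (comp G (comp G y₀ a l₀) y₁ (by rw [comp_s, l₁]))
      (by rw [comp_t, comp_t, k₀])) x₁ (by rw [comp_s, comp_s, k₁]) =
    comp G (comp G (comp G x₀ y₀ k₀) a (by rw [comp_s, l₀])) (comp G y₁ x₁ k₁)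
      (by rw [comp_s, comp_t, l₁]) := by
  rw [comp_congr G (α := comp G x₀ (comp G (comp G y₀ a l₀) y₁ _) _)
    (α' := comp G (comp G x₀ (comp G y₀ a l₀) (by rw [comp_t, k₀])) y₁ (by rw [comp_s, comp_s, l₁]))
    (by rw [comp_s, comp_s, k₁]) (comp_assoc G _ _ _ _ _).symm rfl, comp_assoc G _ y₁ x₁ _ k₁]
  exact comp_congr G _ (comp_assoc G x₀ y₀ a k₀ l₀).symm rfl

namespace SubData

/-- `p₀ ∘ a ∘ p₁` on points -/
def conj {T : Scheme.{u}} (p₀ : T ⟶ D.P) (a : T ⟶ G.R) (p₁ : T ⟶ D.P)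
    (h₀ : p₀ ≫ D.sP = a ≫ G.t) (h₁ : a ≫ G.s = p₁ ≫ D.tP) : T ⟶ G.R :=
  comp G (comp G (p₀ ≫ D.ι) a (by rw [Category.assoc]; exact h₀)) (p₁ ≫ D.ι)
    (by rw [comp_s, Category.assoc]; exact h₁)

theorem conj_t {T : Scheme.{u}} (p₀ : T ⟶ D.P) (a : T ⟶ G.R) (p₁ : T ⟶ D.P) (h₀) (h₁) :
    D.conj p₀ a p₁ h₀ h₁ ≫ G.t = p₀ ≫ D.tP := by
  rw [conj, GrpdBasic.comp_t, GrpdBasic.comp_t, Category.assoc]

theorem conj_s {T : Scheme.{u}} (p₀ : T ⟶ D.P) (a : T ⟶ G.R) (p₁ : T ⟶ D.P) (h₀) (h₁) :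
    D.conj p₀ a p₁ h₀ h₁ ≫ G.s = p₁ ≫ D.sP := by
  rw [conj, GrpdBasic.comp_s, Category.assoc]

theorem conj_congr {T : Scheme.{u}} {p₀ p₀' : T ⟶ D.P} {a a' : T ⟶ G.R} {p₁ p₁' : T ⟶ D.P}
    (e₀ : p₀ = p₀') (e : a = a') (e₁ : p₁ = p₁') (h₀ : p₀ ≫ D.sP = a ≫ G.t)
    (h₁ : a ≫ G.s = p₁ ≫ D.tP) :
    D.conj p₀ a p₁ h₀ h₁ =
      D.conj p₀' a' p₁' (by subst e₀ e; exact h₀) (by subst e₁ e; exact h₁) := by
  subst e₀ e e₁; rfl

theorem precomp_conj {T' T : Scheme.{u}} (f : T' ⟶ T) (p₀ : T ⟶ D.P) (a : T ⟶ G.R) (p₁ : T ⟶ D.P)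
    (h₀ : p₀ ≫ D.sP = a ≫ G.t) (h₁ : a ≫ G.s = p₁ ≫ D.tP) :
    f ≫ D.conj p₀ a p₁ h₀ h₁ = D.conj (f ≫ p₀) (f ≫ a) (f ≫ p₁)
      (by rw [Category.assoc, Category.assoc, h₀]) (by rw [Category.assoc, Category.assoc, h₁]) := by
  simp only [conj, precomp_comp, Category.assoc]

theorem conj_conj {T : Scheme.{u}} (a₀ b₀ : T ⟶ D.P) (a : T ⟶ G.R) (b₁ a₁ : T ⟶ D.P)
    (hb₀ : b₀ ≫ D.sP = a ≫ G.t) (hb₁ : a ≫ G.s = b₁ ≫ D.tP)
    (ha₀ : a₀ ≫ D.sP = b₀ ≫ D.tP) (ha₁ : b₁ ≫ D.sP = a₁ ≫ D.tP) :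
    D.conj a₀ (D.conj b₀ a b₁ hb₀ hb₁) a₁ (by rw [ha₀, conj_t]) (by rw [conj_s, ha₁]) =
      D.conj (D.compP a₀ b₀ ha₀) a (D.compP b₁ a₁ ha₁)
        (by
          have := congrArg (· ≫ G.s) (D.compP_ι a₀ b₀ ha₀)
          simp only [Category.assoc, GrpdBasic.comp_s] at this
          exact this.trans hb₀)
        (by
          have := congrArg (· ≫ G.t) (D.compP_ι b₁ a₁ ha₁)
          simp only [Category.assoc, GrpdBasic.comp_t] at this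
          exact hb₁.trans this.symm) := by
  have e₀ := D.compP_ι a₀ b₀ ha₀
  have e₁ := D.compP_ι b₁ a₁ ha₁
  unfold conj
  have k₀ : (a₀ ≫ D.ι) ≫ G.s = (b₀ ≫ D.ι) ≫ G.t := by simpa only [Category.assoc] using ha₀
  have k₁ : (b₁ ≫ D.ι) ≫ G.s = (a₁ ≫ D.ι) ≫ G.t := by simpa only [Category.assoc] using ha₁
  have l₀ : (b₀ ≫ D.ι) ≫ G.s = a ≫ G.t := by simpa only [Category.assoc] using hb₀
  have l₁ : a ≫ G.s = (b₁ ≫ D.ι) ≫ G.t := by simpa only [Category.assoc] using hb₁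
  refine Eq.trans ?_ (comp_congr G _ (comp_congr G _ e₀ rfl) e₁).symm
  exact five G _ _ _ _ _ k₀ l₀ l₁ k₁

theorem conj_id {T : Scheme.{u}} (a : T ⟶ G.R) :
    D.conj ((a ≫ G.t) ≫ D.eP) a ((a ≫ G.s) ≫ D.eP)
      (by rw [Category.assoc, ← Category.assoc D.eP, D.he, G.e_s, Category.comp_id])
      (by rw [Category.assoc _ D.eP, ← Category.assoc D.eP, D.he, G.e_t, Category.comp_id]) = a := by
  unfold conj
  refine (comp_congr G _ (comp_congr G _ (Category.assoc _ _ _) rfl) (Category.assoc _ _ _)).trans ?_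
  refine (comp_congr G _ (comp_congr G _ (congrArg ((a ≫ G.t) ≫ ·) D.he) rfl)
    (congrArg ((a ≫ G.s) ≫ ·) D.he)).trans ?_
  exact (comp_congr G _ (unit_comp G a rfl) rfl).trans (comp_unit G a rfl)

/-- Triples `(p₀, a, p₁)`. -/
abbrev R2 : Scheme.{u} := pullback (pullback.snd D.sP G.t ≫ G.s) D.tP

/-- left factor -/
def pr0 : D.R2 ⟶ D.P := pullback.fst _ _ ≫ pullback.fst _ _

/-- middle factor -/
def prR : D.R2 ⟶ G.R := pullback.fst _ _ ≫ pullback.snd _ _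

/-- right factor -/
def pr1 : D.R2 ⟶ D.P := pullback.snd _ _

theorem h₀ : D.pr0 ≫ D.sP = D.prR ≫ G.t := by
  rw [pr0, prR, Category.assoc, Category.assoc]; exact congrArg (pullback.fst _ _ ≫ ·) pullback.condition

theorem h₁ : D.prR ≫ G.s = D.pr1 ≫ D.tP := by
  rw [prR, pr1, Category.assoc]; exact pullback.condition

/-- the action `(p₀, a, p₁) ↦ p₀ ∘ a ∘ p₁` -/
def act : D.R2 ⟶ G.R := D.conj D.pr0 D.prR D.pr1 D.h₀ D.h₁

/-- a triple -/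
def mkR2 {T : Scheme.{u}} (p₀ : T ⟶ D.P) (a : T ⟶ G.R) (p₁ : T ⟶ D.P)
    (h₀ : p₀ ≫ D.sP = a ≫ G.t) (h₁ : a ≫ G.s = p₁ ≫ D.tP) : T ⟶ D.R2 :=
  pullback.lift (pullback.lift p₀ a h₀) p₁ (by rw [← Category.assoc, pullback.lift_snd, h₁])

@[reassoc]
theorem mkR2_pr0 {T : Scheme.{u}} (p₀ : T ⟶ D.P) (a : T ⟶ G.R) (p₁ : T ⟶ D.P) (h₀) (h₁) :
    D.mkR2 p₀ a p₁ h₀ h₁ ≫ D.pr0 = p₀ := by
  rw [mkR2, pr0, pullback.lift_fst_assoc, pullback.lift_fst]

@[reassoc]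
theorem mkR2_prR {T : Scheme.{u}} (p₀ : T ⟶ D.P) (a : T ⟶ G.R) (p₁ : T ⟶ D.P) (h₀) (h₁) :
    D.mkR2 p₀ a p₁ h₀ h₁ ≫ D.prR = a := by
  rw [mkR2, prR, pullback.lift_fst_assoc, pullback.lift_snd]

@[reassoc]
theorem mkR2_pr1 {T : Scheme.{u}} (p₀ : T ⟶ D.P) (a : T ⟶ G.R) (p₁ : T ⟶ D.P) (h₀) (h₁) :
    D.mkR2 p₀ a p₁ h₀ h₁ ≫ D.pr1 = p₁ := pullback.lift_snd _ _ _

@[reassoc]
theorem mkR2_act {T : Scheme.{u}} (p₀ : T ⟶ D.P) (a : T ⟶ G.R) (p₁ : T ⟶ D.P) (h₀) (h₁) :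
    D.mkR2 p₀ a p₁ h₀ h₁ ≫ D.act = D.conj p₀ a p₁ h₀ h₁ := by
  rw [act, precomp_conj]
  exact D.conj_congr (D.mkR2_pr0 ..) (D.mkR2_prR ..) (D.mkR2_pr1 ..) _ _

theorem R2_ext {T : Scheme.{u}} {x y : T ⟶ D.R2} (ht : x ≫ D.act = y ≫ D.act)
    (hs : x ≫ D.prR = y ≫ D.prR) : x = y := by
  have e₀ : x ≫ D.pr0 = y ≫ D.pr0 := by
    refine D.hom_ext ?_ ?_
    · have := congrArg (· ≫ G.t) ht
      simp only [Category.assoc, act, conj_t] at this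
      simpa only [Category.assoc] using this
    · rw [Category.assoc, D.h₀, Category.assoc, D.h₀, ← Category.assoc, hs, Category.assoc]
  have e₁ : x ≫ D.pr1 = y ≫ D.pr1 := by
    refine D.hom_ext ?_ ?_
    · rw [Category.assoc, ← D.h₁, Category.assoc, ← D.h₁, ← Category.assoc, hs, Category.assoc]
    · have := congrArg (· ≫ G.s) ht
      simp only [Category.assoc, act, conj_s] at this
      simpa only [Category.assoc] using this
  apply pullback.hom_ext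
  · apply pullback.hom_ext
    · simpa only [pr0, Category.assoc] using e₀
    · simpa only [prR, Category.assoc] using hs
  · exact e₁

theorem compP_tP {T : Scheme.{u}} (a b : T ⟶ D.P) (h : a ≫ D.sP = b ≫ D.tP) :
    D.compP a b h ≫ D.tP = a ≫ D.tP := by
  rw [← Category.assoc, compP_ι, GrpdBasic.comp_t, Category.assoc]

theorem compP_sP {T : Scheme.{u}} (a b : T ⟶ D.P) (h : a ≫ D.sP = b ≫ D.tP) :
    D.compP a b h ≫ D.sP = b ≫ D.sP := by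
  rw [← Category.assoc, compP_ι, GrpdBasic.comp_s, Category.assoc]

theorem iP_tP {T : Scheme.{u}} (a : T ⟶ D.P) : (a ≫ D.iP) ≫ D.tP = a ≫ D.sP := by
  simp only [Category.assoc, reassoc_of% D.hi, G.i_t]

theorem iP_sP {T : Scheme.{u}} (a : T ⟶ D.P) : (a ≫ D.iP) ≫ D.sP = a ≫ D.tP := by
  simp only [Category.assoc, reassoc_of% D.hi, G.i_s]

theorem eP_tP {T : Scheme.{u}} (v : T ⟶ G.U) : (v ≫ D.eP) ≫ D.tP = v := by
  simp only [Category.assoc, reassoc_of% D.he, G.e_t, Category.comp_id]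

theorem eP_sP {T : Scheme.{u}} (v : T ⟶ G.U) : (v ≫ D.eP) ≫ D.sP = v := by
  simp only [Category.assoc, reassoc_of% D.he, G.e_s, Category.comp_id]

theorem compP_inv {T : Scheme.{u}} (a : T ⟶ D.P) :
    D.compP (a ≫ D.iP) a (D.iP_sP a) = (a ≫ D.sP) ≫ D.eP :=
  D.hom_ext (by rw [compP_tP, iP_tP, eP_tP]) (by rw [compP_sP, eP_sP])

theorem compP_inv' {T : Scheme.{u}} (a : T ⟶ D.P) :
    D.compP a (a ≫ D.iP) (D.iP_tP a).symm = (a ≫ D.tP) ≫ D.eP :=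
  D.hom_ext (by rw [compP_tP, eP_tP]) (by rw [compP_sP, iP_sP, eP_sP])

theorem conj_inv {T : Scheme.{u}} (p₀ : T ⟶ D.P) (a : T ⟶ G.R) (p₁ : T ⟶ D.P)
    (h₀ : p₀ ≫ D.sP = a ≫ G.t) (h₁ : a ≫ G.s = p₁ ≫ D.tP) :
    D.conj (p₀ ≫ D.iP) (D.conj p₀ a p₁ h₀ h₁) (p₁ ≫ D.iP)
      (by rw [D.iP_sP, conj_t]) (by rw [conj_s, D.iP_tP]) = a := by
  refine (D.conj_conj (p₀ ≫ D.iP) p₀ a p₁ (p₁ ≫ D.iP) h₀ h₁ (D.iP_sP _) (D.iP_tP _).symm).trans ?_
  refine (D.conj_congr (D.compP_inv p₀) rfl (D.compP_inv' p₁) _ _).trans ?_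
  refine (D.conj_congr (congrArg (· ≫ D.eP) h₀) rfl (congrArg (· ≫ D.eP) h₁.symm) _ _).trans ?_
  exact D.conj_id a

/-- The translation groupoid on the arrows. -/
@[reducible] def grpd2 : Grpd.GroupoidScheme S :=
  ofMono G.pR (D.prR ≫ G.pR) D.prR D.act rfl
    (by
      have e : D.sP ≫ G.pU = D.tP ≫ G.pU := D.grpd.s_over.trans D.grpd.t_over.symm
      calc D.act ≫ G.pR = (D.act ≫ G.t) ≫ G.pU := by rw [Category.assoc, G.t_over]
        _ = D.pr0 ≫ (D.sP ≫ G.pU) := by rw [act, conj_t, e, Category.assoc D.pr0 D.tP]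
        _ = D.prR ≫ G.pR := by rw [← Category.assoc, D.h₀, Category.assoc, G.t_over])
    (fun ht hs => D.R2_ext ht hs)
    (D.mkR2 (G.t ≫ D.eP) (𝟙 _) (G.s ≫ D.eP) (by rw [D.eP_sP, Category.id_comp])
      (by rw [D.eP_tP, Category.id_comp]))
    (D.mkR2 (D.pr0 ≫ D.iP) D.act (D.pr1 ≫ D.iP) (by rw [D.iP_sP, act, conj_t])
      (by rw [D.iP_tP, act, conj_s]))
    (D.mkR2
      (D.compP (pullback.fst _ _ ≫ D.pr0) (pullback.snd _ _ ≫ D.pr0) (by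
        rw [Category.assoc, D.h₀, ← Category.assoc, pullback.condition, Category.assoc, act, conj_t,
          Category.assoc]))
      (pullback.snd _ _ ≫ D.prR)
      (D.compP (pullback.snd _ _ ≫ D.pr1) (pullback.fst _ _ ≫ D.pr1) (by
        rw [Category.assoc _ D.pr1 D.tP, ← D.h₁, ← Category.assoc, ← Category.assoc, pullback.condition]
        simp only [Category.assoc, act, conj_s]))
      (by rw [compP_sP, Category.assoc, D.h₀, Category.assoc])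
      (by rw [compP_tP, Category.assoc _ D.prR, D.h₁, Category.assoc]))
    (D.mkR2_prR ..)
    (by
      rw [mkR2_act]
      refine (D.conj_congr ?_ rfl ?_ _ _).trans (D.conj_id (𝟙 G.R))
      · rw [Category.id_comp]
      · rw [Category.id_comp])
    (D.mkR2_prR ..)
    (by
      rw [mkR2_act]
      exact D.conj_inv D.pr0 D.prR D.pr1 D.h₀ D.h₁)
    (D.mkR2_prR ..)
    (by
      rw [mkR2_act]
      have hy := D.precomp_conj (pullback.snd D.prR D.act) D.pr0 D.prR D.pr1 D.h₀ D.h₁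
      have hx := D.precomp_conj (pullback.fst D.prR D.act) D.pr0 D.prR D.pr1 D.h₀ D.h₁
      have hxy : pullback.fst D.prR D.act ≫ D.prR = pullback.snd D.prR D.act ≫ D.act := pullback.condition
      refine (D.conj_conj _ _ _ _ _ ?_ ?_ ?_ ?_).symm.trans ((D.conj_congr rfl (hy.symm.trans hxy.symm) rfl _ _).trans hx.symm)
      · rw [Category.assoc, D.h₀, Category.assoc]
      · rw [Category.assoc, D.h₁, Category.assoc])

instance : Mono D.grpd2.j := mono_j_of_hom_ext _ fun ht hs => D.R2_ext ht hs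

instance : IsFinite D.grpd2.s := inferInstanceAs (IsFinite (pullback.fst _ _ ≫ pullback.snd _ _))
instance : Flat D.grpd2.s := inferInstanceAs (Flat (pullback.fst _ _ ≫ pullback.snd _ _))
instance : LocallyOfFinitePresentation D.grpd2.s :=
  inferInstanceAs (LocallyOfFinitePresentation (pullback.fst _ _ ≫ pullback.snd _ _))

theorem orbitsInAffine [IsAffine G.U] [IsSeparated G.j] [LocallyQuasiFinite G.j] [LocallyOfFiniteType G.j] :
    GrpdQuotient.OrbitsInAffine D.grpd2 := by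
  intro x
  let m := pullback.mapDesc G.pU G.pU (terminal.from S)
  let f : G.R ⟶ pullback (G.pU ≫ terminal.from S) (G.pU ≫ terminal.from S) := G.j ≫ m
  have : IsAffine (pullback (G.pU ≫ terminal.from S) (G.pU ≫ terminal.from S)) := by
    have : IsAffineHom (G.pU ≫ terminal.from S) := isAffineHom_of_isAffine _
    exact isAffine_of_isAffineHom (pullback.fst (G.pU ≫ terminal.from S) (G.pU ≫ terminal.from S))
  exact Groth.GitQuot.exists_affineOpen_of_finite f _ ((D.grpd2.s.finite_preimage_singleton x).image _)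

end SubData

end Groth.SubQuot
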