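import Mathlib
import Groth.Agent.GitQuot.SubQuot.Pairs

/-!
# The groupoid on the quotient
-/

set_option autoImplicit false

universe u

open AlgebraicGeometry CategoryTheory CategoryTheory.Limits

noncomputable section

namespace Groth.SubQuot

open Groth.GrpdBasic

/-- Cancelling the middle of five arrows. -/
theorem six {S : Scheme.{u}} (G : Grpd.GroupoidScheme S) {T : Scheme.{u}} (x a y b z y' : T ⟶ G.R)
    (hab : a ≫ G.s = b ≫ G.t) (k₀ : x ≫ G.s = a ≫ G.t) (k₁ : a ≫ G.s = y ≫ G.t) (k₂ : b ≫ G.s = z ≫ G.t)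
    (e : y' = y ≫ G.i) :
    comp G (comp G (comp G x a k₀) y (by rw [comp_s, k₁]))
      (comp G (comp G y' b (by rw [e, Category.assoc, G.i_s, ← k₁, hab])) z (by rw [comp_s, k₂]))
      (by rw [comp_s, comp_t, comp_t, e, Category.assoc, G.i_t]) =
    comp G (comp G x (comp G a b hab) (by rw [comp_t, k₀])) z (by rw [comp_s, comp_s, k₂]) := by
  subst e
  have i₁ : (y ≫ G.i) ≫ G.s = b ≫ G.t := by rw [Category.assoc, G.i_s, ← k₁, hab]
  rw [← comp_assoc G (comp G (comp G x a k₀) y (by rw [comp_s, k₁])) (comp G (y ≫ G.i) b i₁) z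
    (by simp only [comp_s, comp_t, Category.assoc, G.i_t]) (by rw [comp_s, k₂])]
  refine comp_congr G _ ?_ rfl
  rw [← comp_assoc G (comp G (comp G x a k₀) y (by rw [comp_s, k₁])) (y ≫ G.i) b
    (by rw [comp_s, Category.assoc, G.i_t]) i₁]
  refine (comp_congr G _ (comp_cancel_inv G (comp G x a k₀) y (by rw [comp_s, k₁])) rfl).trans ?_
  exact comp_assoc G x a b k₀ hab

variable {S : Scheme.{u}} {G : Grpd.GroupoidScheme S} [IsAffine G.U] [IsSeparated G.j] [LocallyQuasiFinite G.j]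
  [LocallyOfFiniteType G.j] (D : SubData G)

/-- An fppf covering morphism. -/
structure Cover {X Y : Scheme.{u}} (π : X ⟶ Y) : Prop where
  flat : Flat π
  lfp : LocallyOfFinitePresentation π
  surj : Surjective π

theorem Cover.comp {X Y Z : Scheme.{u}} {f : X ⟶ Y} {g : Y ⟶ Z} (hf : Cover f) (hg : Cover g) :
    Cover (f ≫ g) := by
  have := hf.flat; have := hf.lfp; have := hf.surj; have := hg.flat; have := hg.lfp; have := hg.surj
  exact ⟨inferInstance, inferInstance, inferInstance⟩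

theorem Cover.effectiveEpi {X Y : Scheme.{u}} {f : X ⟶ Y} (hf : Cover f) : EffectiveEpi f := by
  have := hf.flat; have := hf.lfp; have := hf.surj
  infer_instance

theorem Cover.epi {X Y : Scheme.{u}} {f : X ⟶ Y} (hf : Cover f) : Epi f := by
  have := hf.effectiveEpi
  infer_instance

namespace SubData

/-- The arrows of the quotient groupoid. -/
abbrev RQ : Scheme.{u} := GrpdQuotient.quotient D.grpd2

/-- The projection on arrows. -/
abbrev p : G.R ⟶ D.RQ := GrpdQuotient.p D.orbitsInAffine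

theorem isQuot_p : Quot.IsQuot D.prR D.act D.p := GrpdQuotient.isQuot D.orbitsInAffine

theorem isPullback_p : IsPullback D.act D.prR D.p D.p := GrpdQuotient.isPullback D.orbitsInAffine

instance : IsFinite D.p := (GrpdQuotient.finLocFree D.orbitsInAffine).1
instance : Flat D.p := (GrpdQuotient.finLocFree D.orbitsInAffine).2.1
instance : LocallyOfFinitePresentation D.p := (GrpdQuotient.finLocFree D.orbitsInAffine).2.2
instance : Surjective D.p := ⟨D.isQuot_p.surj⟩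

theorem act_q_t : D.act ≫ G.t ≫ D.q = D.prR ≫ G.t ≫ D.q := by
  rw [← Category.assoc, act, conj_t, Category.assoc, D.isPullback_q.w, ← Category.assoc, D.h₀, Category.assoc]

theorem act_q_s : D.act ≫ G.s ≫ D.q = D.prR ≫ G.s ≫ D.q := by
  rw [← Category.assoc, act, conj_s, Category.assoc, ← D.isPullback_q.w, ← Category.assoc, ← D.h₁, Category.assoc]

/-- target downstairs -/
def tQ : D.RQ ⟶ D.Q := (D.isQuot_p.exists_desc _ D.act_q_t).choose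

/-- source downstairs -/
def sQ : D.RQ ⟶ D.Q := (D.isQuot_p.exists_desc _ D.act_q_s).choose

@[reassoc]
theorem p_tQ : D.p ≫ D.tQ = G.t ≫ D.q := (D.isQuot_p.exists_desc _ D.act_q_t).choose_spec

@[reassoc]
theorem p_sQ : D.p ≫ D.sQ = G.s ≫ D.q := (D.isQuot_p.exists_desc _ D.act_q_s).choose_spec

/-- Conjugation does not change the class. -/
theorem conj_p {T : Scheme.{u}} (p₀ : T ⟶ D.P) (a : T ⟶ G.R) (p₁ : T ⟶ D.P)
    (h₀ : p₀ ≫ D.sP = a ≫ G.t) (h₁ : a ≫ G.s = p₁ ≫ D.tP) :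
    D.conj p₀ a p₁ h₀ h₁ ≫ D.p = a ≫ D.p := by
  rw [← D.mkR2_act p₀ a p₁ h₀ h₁, Category.assoc, D.isQuot_p.w, ← Category.assoc, D.mkR2_prR]

theorem ext_p {T : Scheme.{u}} {a a' : T ⟶ G.R} (hp : a ≫ D.p = a' ≫ D.p) (ht : a ≫ G.t = a' ≫ G.t)
    (hs : a ≫ G.s = a' ≫ G.s) : a = a' := by
  let x := D.isPullback_p.lift a a' hp
  have hxa : x ≫ D.act = a := D.isPullback_p.lift_fst _ _ _
  have hxR : x ≫ D.prR = a' := D.isPullback_p.lift_snd _ _ _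
  have e₀ : x ≫ D.pr0 = (a' ≫ G.t) ≫ D.eP := by
    refine D.hom_ext ?_ ?_
    · rw [D.eP_tP, ← ht, ← hxa, act, Category.assoc, Category.assoc, conj_t]
    · rw [D.eP_sP, Category.assoc, D.h₀, ← Category.assoc, hxR]
  have e₁ : x ≫ D.pr1 = (a' ≫ G.s) ≫ D.eP := by
    refine D.hom_ext ?_ ?_
    · rw [D.eP_tP, Category.assoc, ← D.h₁, ← Category.assoc, hxR]
    · rw [D.eP_sP, ← hs, ← hxa, act, Category.assoc, Category.assoc, conj_s]
  rw [← hxa, act, precomp_conj, D.conj_congr e₀ hxR e₁ _ _]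
  exact D.conj_id a'

/-- Arrows of `G` are arrows of the quotient with lifts of both end points. -/
theorem exists_lift {T : Scheme.{u}} (a : T ⟶ D.RQ) (u₀ u₁ : T ⟶ G.U) (h₀ : u₀ ≫ D.q = a ≫ D.tQ)
    (h₁ : u₁ ≫ D.q = a ≫ D.sQ) :
    ∃ r : T ⟶ G.R, r ≫ D.p = a ∧ r ≫ G.t = u₀ ∧ r ≫ G.s = u₁ := by
  let π := pullback.fst a D.p
  let r := pullback.snd a D.p
  have hc : π ≫ a = r ≫ D.p := pullback.condition
  obtain ⟨x₀, hx₀, hx₀'⟩ := D.exists_P (π ≫ u₀) (r ≫ G.t) (by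
    rw [Category.assoc, h₀, ← Category.assoc, hc, Category.assoc, p_tQ, Category.assoc])
  obtain ⟨x₁, hx₁, hx₁'⟩ := D.exists_P (r ≫ G.s) (π ≫ u₁) (by
    rw [Category.assoc π, h₁, ← Category.assoc π, hc, Category.assoc, Category.assoc, p_sQ])
  let b := D.conj x₀ r x₁ hx₀' hx₁.symm
  have hb : b ≫ D.p = π ≫ a := by rw [hc]; exact D.conj_p _ _ _ _ _
  have hbt : b ≫ G.t = π ≫ u₀ := (D.conj_t _ _ _ _ _).trans hx₀
  have hbs : b ≫ G.s = π ≫ u₁ := (D.conj_s _ _ _ _ _).trans hx₁'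
  have hcomp : ∀ {Z : Scheme.{u}} (g₁ g₂ : Z ⟶ pullback a D.p), g₁ ≫ π = g₂ ≫ π → g₁ ≫ b = g₂ ≫ b := by
    intro Z g₁ g₂ h
    refine D.ext_p ?_ ?_ ?_
    · rw [Category.assoc, Category.assoc, hb, ← Category.assoc, h, Category.assoc]
    · rw [Category.assoc, Category.assoc, hbt, ← Category.assoc, h, Category.assoc]
    · rw [Category.assoc, Category.assoc, hbs, ← Category.assoc, h, Category.assoc]
  refine ⟨EffectiveEpi.desc π b hcomp, ?_, ?_, ?_⟩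
  · rw [← cancel_epi π, ← Category.assoc, EffectiveEpi.fac, hb]
  · rw [← cancel_epi π, ← Category.assoc, EffectiveEpi.fac, hbt]
  · rw [← cancel_epi π, ← Category.assoc, EffectiveEpi.fac, hbs]

theorem exists_cover {T : Scheme.{u}} (x : T ⟶ D.Q) :
    ∃ (T' : Scheme.{u}) (π : T' ⟶ T) (u : T' ⟶ G.U), Cover π ∧ u ≫ D.q = π ≫ x :=
  ⟨pullback x D.q, pullback.fst _ _, pullback.snd _ _, ⟨inferInstance, inferInstance, inferInstance⟩,
    pullback.condition.symm⟩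

/-- Composable pairs of the quotient lift after a cover. -/
theorem exists_lift_pair {T : Scheme.{u}} (a b : T ⟶ D.RQ) (h : a ≫ D.sQ = b ≫ D.tQ) :
    ∃ (T' : Scheme.{u}) (π : T' ⟶ T) (α β : T' ⟶ G.R), Cover π ∧ α ≫ G.s = β ≫ G.t ∧
      α ≫ D.p = π ≫ a ∧ β ≫ D.p = π ≫ b := by
  obtain ⟨T₁, π₁, u₁, hπ₁, hu₁⟩ := D.exists_cover (a ≫ D.sQ)
  obtain ⟨T₂, π₂, u₀, hπ₂, hu₀⟩ := D.exists_cover (π₁ ≫ a ≫ D.tQ)
  obtain ⟨T₃, π₃, u₂, hπ₃, hu₂⟩ := D.exists_cover (π₂ ≫ π₁ ≫ b ≫ D.sQ)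
  obtain ⟨α, hα, -, hαs⟩ := D.exists_lift (π₃ ≫ π₂ ≫ π₁ ≫ a) (π₃ ≫ u₀) (π₃ ≫ π₂ ≫ u₁)
    (by simp only [Category.assoc, hu₀]) (by simp only [Category.assoc, hu₁])
  obtain ⟨β, hβ, hβt, -⟩ := D.exists_lift (π₃ ≫ π₂ ≫ π₁ ≫ b) (π₃ ≫ π₂ ≫ u₁) u₂
    (by simp only [Category.assoc, hu₁, h]) (by simp only [Category.assoc, hu₂])
  refine ⟨T₃, π₃ ≫ π₂ ≫ π₁, α, β, hπ₃.comp (hπ₂.comp hπ₁), hαs.trans hβt.symm, ?_, ?_⟩
  · simpa only [Category.assoc] using hα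
  · simpa only [Category.assoc] using hβ

/-- Composable triples of the quotient lift after a cover. -/
theorem exists_lift_triple {T : Scheme.{u}} (a b c : T ⟶ D.RQ) (h : a ≫ D.sQ = b ≫ D.tQ)
    (h' : b ≫ D.sQ = c ≫ D.tQ) :
    ∃ (T' : Scheme.{u}) (π : T' ⟶ T) (α β γ : T' ⟶ G.R), Cover π ∧ α ≫ G.s = β ≫ G.t ∧
      β ≫ G.s = γ ≫ G.t ∧ α ≫ D.p = π ≫ a ∧ β ≫ D.p = π ≫ b ∧ γ ≫ D.p = π ≫ c := by
  obtain ⟨T₁, π₁, α, β, hπ₁, hαβ, hα, hβ⟩ := D.exists_lift_pair a b h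
  obtain ⟨T₂, π₂, u₃, hπ₂, hu₃⟩ := D.exists_cover (π₁ ≫ c ≫ D.sQ)
  obtain ⟨γ, hγ, hγt, -⟩ := D.exists_lift (π₂ ≫ π₁ ≫ c) (π₂ ≫ β ≫ G.s) u₃
    (by
      have : β ≫ G.s ≫ D.q = π₁ ≫ c ≫ D.tQ := by
        rw [← D.p_sQ, reassoc_of% hβ, h']
      simp only [Category.assoc, this])
    (by simp only [Category.assoc, hu₃])
  refine ⟨T₂, π₂ ≫ π₁, π₂ ≫ α, π₂ ≫ β, γ, hπ₂.comp hπ₁, ?_, ?_, ?_, ?_, ?_⟩
  · rw [Category.assoc, Category.assoc, hαβ]
  · rw [Category.assoc, hγt]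
  · rw [Category.assoc, hα, Category.assoc]
  · rw [Category.assoc, hβ, Category.assoc]
  · rw [hγ, Category.assoc]

/-- A `P`-translate with prescribed end points. -/
theorem exists_conj {T : Scheme.{u}} {a a' : T ⟶ G.R} (hp : a ≫ D.p = a' ≫ D.p) (p₀ p₁ : T ⟶ D.P)
    (h₀ : p₀ ≫ D.sP = a' ≫ G.t) (h₁ : a' ≫ G.s = p₁ ≫ D.tP) (ht : p₀ ≫ D.tP = a ≫ G.t)
    (hs : p₁ ≫ D.sP = a ≫ G.s) : D.conj p₀ a' p₁ h₀ h₁ = a :=
  D.ext_p ((D.conj_p ..).trans hp.symm) ((D.conj_t ..).trans ht) ((D.conj_s ..).trans hs)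

theorem conj_comp {T : Scheme.{u}} (p₀ p₁ p₂ : T ⟶ D.P) (a b : T ⟶ G.R) (hab : a ≫ G.s = b ≫ G.t)
    (h₀ : p₀ ≫ D.sP = a ≫ G.t) (h₁ : a ≫ G.s = p₁ ≫ D.tP) (h₂ : b ≫ G.s = p₂ ≫ D.tP) :
    comp G (D.conj p₀ a p₁ h₀ h₁)
      (D.conj (p₁ ≫ D.iP) b p₂ (by rw [D.iP_sP, ← h₁, hab]) h₂)
      (by rw [conj_s, conj_t, D.iP_tP]) = D.conj p₀ (comp G a b hab) p₂
        (by rw [GrpdBasic.comp_t, h₀]) (by rw [GrpdBasic.comp_s, h₂]) := by
  have e : (p₁ ≫ D.iP) ≫ D.ι = (p₁ ≫ D.ι) ≫ G.i := by rw [Category.assoc, D.hi, Category.assoc]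
  have k₀ : (p₀ ≫ D.ι) ≫ G.s = a ≫ G.t := by simpa only [Category.assoc] using h₀
  have k₁ : a ≫ G.s = (p₁ ≫ D.ι) ≫ G.t := by simpa only [Category.assoc] using h₁
  unfold conj
  exact six G (p₀ ≫ D.ι) a (p₁ ≫ D.ι) b (p₂ ≫ D.ι) _ hab k₀ k₁
    (by simpa only [Category.assoc] using h₂) e

/-- Classes of composites only depend on classes. -/
theorem comp_p_congr {T : Scheme.{u}} {a a' b b' : T ⟶ G.R} (h : a ≫ G.s = b ≫ G.t)
    (h' : a' ≫ G.s = b' ≫ G.t) (ha : a ≫ D.p = a' ≫ D.p) (hb : b ≫ D.p = b' ≫ D.p) :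
    comp G a b h ≫ D.p = comp G a' b' h' ≫ D.p := by
  have hq : ∀ {x x' : T ⟶ G.R}, x ≫ D.p = x' ≫ D.p → (x ≫ G.t) ≫ D.q = (x' ≫ G.t) ≫ D.q ∧
      (x ≫ G.s) ≫ D.q = (x' ≫ G.s) ≫ D.q := fun {x x'} e =>
    ⟨by rw [Category.assoc, Category.assoc, ← p_tQ, reassoc_of% e],
     by rw [Category.assoc, Category.assoc, ← p_sQ, reassoc_of% e]⟩
  obtain ⟨p₀, e₀, f₀⟩ := D.exists_P (a ≫ G.t) (a' ≫ G.t) (hq ha).1
  obtain ⟨p₁, e₁, f₁⟩ := D.exists_P (a' ≫ G.s) (a ≫ G.s) (hq ha).2.symm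
  obtain ⟨p₂, e₂, f₂⟩ := D.exists_P (b' ≫ G.s) (b ≫ G.s) (hq hb).2.symm
  have Ea := D.exists_conj ha p₀ p₁ f₀ e₁.symm e₀ f₁
  have Eb := D.exists_conj hb (p₁ ≫ D.iP) p₂ (by rw [D.iP_sP, e₁, h']) e₂.symm
    (by rw [D.iP_tP, f₁, h]) f₂
  rw [comp_congr G h Ea.symm Eb.symm, D.conj_comp p₀ p₁ p₂ a' b' h' f₀ e₁.symm e₂.symm, conj_p]

/-- structure map of the arrows -/
abbrev pRQ : D.RQ ⟶ S := D.sQ ≫ D.pQ

@[reassoc]
theorem p_pRQ : D.p ≫ D.pRQ = G.pR := by rw [p_sQ_assoc, q_pQ, G.s_over]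

theorem tQ_pQ : D.tQ ≫ D.pQ = D.pRQ := by
  refine D.isQuot_p.epi ?_
  rw [p_tQ_assoc, q_pQ, G.t_over, p_pRQ]

theorem exists_eQ : ∃ e : D.Q ⟶ D.RQ, D.q ≫ e = G.e ≫ D.p := by
  refine D.isQuot_q.exists_desc (G.e ≫ D.p) ?_
  rw [← Category.assoc, ← Category.assoc _ G.e, ← D.conj_p (𝟙 D.P) (D.sP ≫ G.e) (𝟙 D.P ≫ D.iP)
    (by rw [Category.id_comp, Category.assoc, G.e_t, Category.comp_id])
    (by rw [D.iP_tP, Category.id_comp, Category.assoc, G.e_s, Category.comp_id])]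
  congr 1
  unfold conj
  refine Eq.symm ?_
  refine (comp_congr G _ (comp_congr G _ (Category.id_comp D.ι) rfl)
    (show (𝟙 D.P ≫ D.iP) ≫ D.ι = D.ι ≫ G.i by rw [Category.id_comp, D.hi])).trans ?_
  exact (comp_congr G _ (comp_unit G D.ι rfl) rfl).trans (comp_inv G D.ι)

theorem inv_p_congr {T : Scheme.{u}} {a a' : T ⟶ G.R} (h : a ≫ D.p = a' ≫ D.p) :
    (a ≫ G.i) ≫ D.p = (a' ≫ G.i) ≫ D.p := by
  have hq : (a ≫ G.s) ≫ D.q = (a' ≫ G.s) ≫ D.q ∧ (a' ≫ G.t) ≫ D.q = (a ≫ G.t) ≫ D.q :=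
    ⟨by rw [Category.assoc, Category.assoc, ← p_sQ, reassoc_of% h],
     by rw [Category.assoc, Category.assoc, ← p_tQ, reassoc_of% h]⟩
  obtain ⟨p₀, e₀, f₀⟩ := D.exists_P (a ≫ G.s) (a' ≫ G.s) hq.1
  obtain ⟨p₁, e₁, f₁⟩ := D.exists_P (a' ≫ G.t) (a ≫ G.t) hq.2
  obtain ⟨hu₀, hu₁⟩ : p₀ ≫ D.sP = (a' ≫ G.i) ≫ G.t ∧ (a' ≫ G.i) ≫ G.s = p₁ ≫ D.tP :=
    ⟨by rw [Category.assoc, G.i_t, f₀], by rw [Category.assoc, G.i_s, e₁]⟩
  let Y := D.conj p₀ (a' ≫ G.i) p₁ hu₀ hu₁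
  have hY : Y = a ≫ G.i := by
    have hYa : comp G Y a (by rw [conj_s, f₁]) ≫ D.p = comp G (a' ≫ G.i) a' (by rw [Category.assoc, G.i_s]) ≫ D.p :=
      D.comp_p_congr _ _ (D.conj_p ..) h
    rw [inv_comp] at hYa
    have hu : comp G Y a (by rw [conj_s, f₁]) = (a ≫ G.s) ≫ G.e := by
      refine D.ext_p ?_ ?_ ?_
      · rw [hYa, Category.assoc _ G.e, Category.assoc _ G.e, ← D.exists_eQ.choose_spec]
        simp only [Category.assoc]
        rw [reassoc_of% hq.1]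
      · rw [GrpdBasic.comp_t, conj_t, e₀, Category.assoc _ G.e, G.e_t, Category.comp_id]
      · rw [GrpdBasic.comp_s, Category.assoc _ G.e, G.e_s, Category.comp_id]
    have key := comp_cancel_inv G Y a (by rw [conj_s, f₁])
    rw [comp_congr G _ hu rfl] at key
    rw [← key, unit_comp G (a ≫ G.i) (by rw [Category.assoc, G.i_t])]
  rw [← hY]
  exact D.conj_p ..

theorem exists_iQ : ∃ i : D.RQ ⟶ D.RQ, D.p ≫ i = G.i ≫ D.p := by
  refine D.isQuot_p.exists_desc (G.i ≫ D.p) ?_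
  have := D.inv_p_congr (D.isQuot_p.w : D.act ≫ D.p = D.prR ≫ D.p)
  simpa only [Category.assoc] using this

/-- Composable pairs downstairs. -/
abbrev pairsQ : Scheme.{u} := pullback D.sQ D.tQ

theorem exists_cQ : ∃ c : D.pairsQ ⟶ D.RQ, ∀ {T : Scheme.{u}} (α β : T ⟶ G.R) (h : α ≫ G.s = β ≫ G.t),
    pullback.lift (α ≫ D.p) (β ≫ D.p)
      (by rw [Category.assoc, Category.assoc, p_sQ, p_tQ, reassoc_of% h]) ≫ c = comp G α β h ≫ D.p := by
  obtain ⟨W, π, α, β, hπ, hab, hα, hβ⟩ :=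
    D.exists_lift_pair (pullback.fst D.sQ D.tQ) (pullback.snd D.sQ D.tQ) pullback.condition
  have := hπ.effectiveEpi
  have := hπ.flat; have := hπ.lfp; have := hπ.surj
  have hcomp : ∀ {Z : Scheme.{u}} (g₁ g₂ : Z ⟶ W), g₁ ≫ π = g₂ ≫ π →
      g₁ ≫ comp G α β hab ≫ D.p = g₂ ≫ comp G α β hab ≫ D.p := by
    intro Z g₁ g₂ hg
    rw [← Category.assoc, ← Category.assoc, precomp_comp, precomp_comp]
    exact D.comp_p_congr _ _ (by rw [Category.assoc, Category.assoc, hα, reassoc_of% hg])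
      (by rw [Category.assoc, Category.assoc, hβ, reassoc_of% hg])
  refine ⟨EffectiveEpi.desc π (comp G α β hab ≫ D.p) hcomp, fun {T} α' β' h => ?_⟩
  let l := pullback.lift (α' ≫ D.p) (β' ≫ D.p)
    (show (α' ≫ D.p) ≫ D.sQ = (β' ≫ D.p) ≫ D.tQ by
      rw [Category.assoc, Category.assoc, p_sQ, p_tQ, reassoc_of% h])
  have hl₁ : l ≫ pullback.fst _ _ = α' ≫ D.p := pullback.lift_fst _ _ _
  have hl₂ : l ≫ pullback.snd _ _ = β' ≫ D.p := pullback.lift_snd _ _ _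
  change l ≫ _ = _
  have hc : pullback.fst l π ≫ l = pullback.snd l π ≫ π := pullback.condition
  rw [← cancel_epi (pullback.fst l π), ← Category.assoc (pullback.fst l π) l, hc,
    Category.assoc (pullback.snd l π), EffectiveEpi.fac, ← Category.assoc, ← Category.assoc,
    precomp_comp, precomp_comp]
  refine D.comp_p_congr _ _ ?_ ?_
  · rw [Category.assoc, Category.assoc, hα, ← reassoc_of% hc, hl₁]
  · rw [Category.assoc, Category.assoc, hβ, ← reassoc_of% hc, hl₂]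

/-- unit downstairs -/
def eQ : D.Q ⟶ D.RQ := D.exists_eQ.choose

@[reassoc]
theorem q_eQ : D.q ≫ D.eQ = G.e ≫ D.p := D.exists_eQ.choose_spec

/-- inverse downstairs -/
def iQ : D.RQ ⟶ D.RQ := D.exists_iQ.choose

@[reassoc]
theorem p_iQ : D.p ≫ D.iQ = G.i ≫ D.p := D.exists_iQ.choose_spec

/-- composition downstairs -/
def cQ : D.pairsQ ⟶ D.RQ := D.exists_cQ.choose

/-- composition of points downstairs -/
def mulQ {T : Scheme.{u}} (a b : T ⟶ D.RQ) (h : a ≫ D.sQ = b ≫ D.tQ) : T ⟶ D.RQ :=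
  pullback.lift a b h ≫ D.cQ

theorem precomp_mulQ {T' T : Scheme.{u}} (π : T' ⟶ T) (a b : T ⟶ D.RQ) (h : a ≫ D.sQ = b ≫ D.tQ)
    (α β : T' ⟶ G.R) (hαβ : α ≫ G.s = β ≫ G.t) (hα : α ≫ D.p = π ≫ a) (hβ : β ≫ D.p = π ≫ b) :
    π ≫ D.mulQ a b h = comp G α β hαβ ≫ D.p := by
  rw [mulQ, ← D.exists_cQ.choose_spec α β hαβ, ← Category.assoc]
  refine congrArg (· ≫ D.cQ) (pullback.hom_ext ?_ ?_)
  · rw [Category.assoc, pullback.lift_fst, pullback.lift_fst, hα]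
  · rw [Category.assoc, pullback.lift_snd, pullback.lift_snd, hβ]

theorem mulQ_p {T : Scheme.{u}} (α β : T ⟶ G.R) (h : α ≫ G.s = β ≫ G.t)
    (h' : (α ≫ D.p) ≫ D.sQ = (β ≫ D.p) ≫ D.tQ) :
    D.mulQ (α ≫ D.p) (β ≫ D.p) h' = comp G α β h ≫ D.p :=
  D.exists_cQ.choose_spec α β h

theorem mulQ_sQ {T : Scheme.{u}} (a b : T ⟶ D.RQ) (h : a ≫ D.sQ = b ≫ D.tQ) :
    D.mulQ a b h ≫ D.sQ = b ≫ D.sQ := by
  obtain ⟨T', π, α, β, hπ, hαβ, hα, hβ⟩ := D.exists_lift_pair a b h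
  have := hπ.epi
  rw [← cancel_epi π, ← Category.assoc, D.precomp_mulQ π a b h α β hαβ hα hβ, Category.assoc, p_sQ,
    GrpdBasic.comp_s_assoc, ← p_sQ, reassoc_of% hβ]

theorem mulQ_tQ {T : Scheme.{u}} (a b : T ⟶ D.RQ) (h : a ≫ D.sQ = b ≫ D.tQ) :
    D.mulQ a b h ≫ D.tQ = a ≫ D.tQ := by
  obtain ⟨T', π, α, β, hπ, hαβ, hα, hβ⟩ := D.exists_lift_pair a b h
  have := hπ.epi
  rw [← cancel_epi π, ← Category.assoc, D.precomp_mulQ π a b h α β hαβ hα hβ, Category.assoc, p_tQ,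
    GrpdBasic.comp_t_assoc, ← p_tQ, reassoc_of% hα]

theorem eQ_sQ : D.eQ ≫ D.sQ = 𝟙 D.Q := D.isQuot_q.epi (by
  rw [q_eQ_assoc, p_sQ, reassoc_of% G.e_s, Category.comp_id])

theorem eQ_tQ : D.eQ ≫ D.tQ = 𝟙 D.Q := D.isQuot_q.epi (by
  rw [q_eQ_assoc, p_tQ, reassoc_of% G.e_t, Category.comp_id])

theorem iQ_sQ : D.iQ ≫ D.sQ = D.tQ := D.isQuot_p.epi (by rw [p_iQ_assoc, p_sQ, p_tQ, reassoc_of% G.i_s])

theorem iQ_tQ : D.iQ ≫ D.tQ = D.sQ := D.isQuot_p.epi (by rw [p_iQ_assoc, p_tQ, p_sQ, reassoc_of% G.i_t])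

/-- **The quotient groupoid.** -/
@[reducible] def quotGrpd : Grpd.GroupoidScheme S where
  U := D.Q
  R := D.RQ
  pU := D.pQ
  pR := D.pRQ
  s := D.sQ
  t := D.tQ
  e := D.eQ
  i := D.iQ
  c := D.cQ
  s_over := rfl
  t_over := D.tQ_pQ
  comp_s := D.mulQ_sQ
  comp_t := D.mulQ_tQ
  assoc a b c h₁ h₂ := by
    obtain ⟨T', π, α, β, γ, hπ, hαβ, hβγ, hα, hβ, hγ⟩ := D.exists_lift_triple a b c h₁ h₂
    have := hπ.epi
    rw [← cancel_epi π]
    refine (D.precomp_mulQ π (D.mulQ a b h₁) c _ (comp G α β hαβ) γ (by rw [GrpdBasic.comp_s, hβγ])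
      (D.precomp_mulQ π a b h₁ α β hαβ hα hβ).symm hγ).trans ?_
    refine Eq.trans ?_ (D.precomp_mulQ π a (D.mulQ b c h₂) _ α (comp G β γ hβγ)
      (by rw [GrpdBasic.comp_t, hαβ]) hα (D.precomp_mulQ π b c h₂ β γ hβγ hβ hγ).symm).symm
    exact congrArg (· ≫ D.p) (GrpdBasic.comp_assoc G α β γ hαβ hβγ)
  e_s := D.eQ_sQ
  e_t := D.eQ_tQ
  comp_e a := by
    rw [← cancel_epi (pullback.fst a D.p)]
    refine (D.precomp_mulQ (pullback.fst a D.p) a (a ≫ D.sQ ≫ D.eQ) _ (pullback.snd a D.p)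
      ((pullback.snd a D.p ≫ G.s) ≫ G.e) (by rw [Category.assoc, G.e_t, Category.comp_id])
      pullback.condition.symm ?_).trans ?_
    · rw [Category.assoc _ G.e, ← q_eQ, pullback.condition_assoc, p_sQ_assoc, Category.assoc]
    · rw [GrpdBasic.comp_unit G _ rfl, pullback.condition]
  e_comp a := by
    rw [← cancel_epi (pullback.fst a D.p)]
    refine (D.precomp_mulQ (pullback.fst a D.p) (a ≫ D.tQ ≫ D.eQ) a _
      ((pullback.snd a D.p ≫ G.t) ≫ G.e) (pullback.snd a D.p)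
      (by rw [Category.assoc, G.e_s, Category.comp_id]) ?_ pullback.condition.symm).trans ?_
    · rw [Category.assoc _ G.e, ← q_eQ, pullback.condition_assoc, p_tQ_assoc, Category.assoc]
    · rw [GrpdBasic.unit_comp G _ rfl, pullback.condition]
  i_s := D.iQ_sQ
  i_t := D.iQ_tQ
  comp_i a := by
    rw [← cancel_epi (pullback.fst a D.p)]
    refine (D.precomp_mulQ (pullback.fst a D.p) a (a ≫ D.iQ) _ (pullback.snd a D.p)
      (pullback.snd a D.p ≫ G.i) (by rw [Category.assoc, G.i_t]) pullback.condition.symm ?_).trans ?_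
    · rw [Category.assoc, ← p_iQ, pullback.condition_assoc]
    · rw [GrpdBasic.comp_inv, Category.assoc _ G.e, ← q_eQ, pullback.condition_assoc, p_tQ_assoc, Category.assoc]
  i_comp a := by
    rw [← cancel_epi (pullback.fst a D.p)]
    refine (D.precomp_mulQ (pullback.fst a D.p) (a ≫ D.iQ) a _ (pullback.snd a D.p ≫ G.i)
      (pullback.snd a D.p) (by rw [Category.assoc, G.i_s]) ?_ pullback.condition.symm).trans ?_
    · rw [Category.assoc, ← p_iQ, pullback.condition_assoc]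
    · rw [GrpdBasic.inv_comp, Category.assoc _ G.e, ← q_eQ, pullback.condition_assoc, p_sQ_assoc, Category.assoc]

/-- The quotient morphism of groupoids. -/
def homQ : Grpd.GroupoidScheme.Hom G D.quotGrpd where
  fU := D.q
  fR := D.p
  fU_over := D.q_pQ
  comm_s := D.p_sQ
  comm_t := D.p_tQ
  comm_c α β h := (D.mulQ_p α β h (by rw [Category.assoc, Category.assoc, p_sQ, p_tQ, reassoc_of% h])).symm

/-- **The groupoid is the restriction of the quotient groupoid.** -/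
theorem isPullback_j : IsPullback D.p G.j D.quotGrpd.j
    (pullback.map G.pU G.pU D.pQ D.pQ D.q D.q (𝟙 S)
      ((Category.comp_id _).trans D.q_pQ.symm) ((Category.comp_id _).trans D.q_pQ.symm)) := by
  have hw : D.p ≫ D.quotGrpd.j = G.j ≫ pullback.map G.pU G.pU D.pQ D.pQ D.q D.q (𝟙 S)
      ((Category.comp_id _).trans D.q_pQ.symm) ((Category.comp_id _).trans D.q_pQ.symm) := by
    apply pullback.hom_ext
    · simp only [Category.assoc, pullback.lift_fst, j_fst_assoc]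
      exact (congrArg (D.p ≫ ·) (j_fst D.quotGrpd)).trans D.p_tQ
    · simp only [Category.assoc, pullback.lift_snd, j_snd_assoc]
      exact (congrArg (D.p ≫ ·) (j_snd D.quotGrpd)).trans D.p_sQ
  have key : ∀ {T : Scheme.{u}} (a : T ⟶ D.RQ) (v : T ⟶ pullback G.pU G.pU),
      (a ≫ D.quotGrpd.j = v ≫ pullback.map G.pU G.pU D.pQ D.pQ D.q D.q (𝟙 S)
        ((Category.comp_id _).trans D.q_pQ.symm) ((Category.comp_id _).trans D.q_pQ.symm)) →
      ∃ r : T ⟶ G.R, r ≫ D.p = a ∧ r ≫ G.j = v := by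
    intro T a v hv
    have h₀ := congrArg (· ≫ pullback.fst _ _) hv
    have h₁ := congrArg (· ≫ pullback.snd _ _) hv
    simp only [Category.assoc, pullback.lift_fst, pullback.lift_snd] at h₀ h₁
    replace h₀ := (congrArg (a ≫ ·) (j_fst D.quotGrpd)).symm.trans h₀
    replace h₁ := (congrArg (a ≫ ·) (j_snd D.quotGrpd)).symm.trans h₁
    obtain ⟨r, hr, hrt, hrs⟩ := D.exists_lift a (v ≫ pullback.fst _ _) (v ≫ pullback.snd _ _)
      (by rw [Category.assoc]; exact h₀.symm) (by rw [Category.assoc]; exact h₁.symm)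
    refine ⟨r, hr, pullback.hom_ext ?_ ?_⟩
    · rw [Category.assoc, j_fst, hrt]
    · rw [Category.assoc, j_snd, hrs]
  refine ⟨⟨hw⟩, ⟨PullbackCone.IsLimit.mk _ (fun c => (key c.fst c.snd c.condition).choose)
    (fun c => (key c.fst c.snd c.condition).choose_spec.1)
    (fun c => (key c.fst c.snd c.condition).choose_spec.2) fun c m h₁ h₂ => ?_⟩⟩
  have e₁ := h₁.trans (key c.fst c.snd c.condition).choose_spec.1.symm
  have e₂ := h₂.trans (key c.fst c.snd c.condition).choose_spec.2.symm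
  refine D.ext_p e₁ ?_ ?_
  · simpa only [Category.assoc, j_fst] using congrArg (· ≫ pullback.fst _ _) e₂
  · simpa only [Category.assoc, j_snd] using congrArg (· ≫ pullback.snd _ _) e₂

end SubData

end Groth.SubQuot
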